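import Mathlib
set_option linter.all false

-- part: CTFrame/SL3
section
/-!
# Root subgroups, standard `SL₂`'s and diagonal involutions in `SL (Fin 3) F`

`X a b` = transvection group, `std a b = X a b ⊔ X b a`, `dg c` = the diagonal matrix with `1` at `c` and `-1` at the two
other places, `wl b c` a Weyl element in `std b c`.
Main point (`root_or`): a subgroup `Y` of `std a b` consisting of unipotent elements and normalised by `dg a` is contained
in `X a b` or in `X b a` (characteristic not 2).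
-/

set_option autoImplicit false
set_option linter.unusedSectionVars false
set_option linter.unusedVariables false
set_option linter.unusedSimpArgs false

namespace Cfsg.Agent.CTFrame.SL3

open Matrix

universe u

variable {F : Type u} [Field F]

/-- `SL₃` -/
abbrev S3 (F : Type u) [Field F] : Type u := SpecialLinearGroup (Fin 3) F

section Cases

variable {a b c : Fin 3}

theorem sum3 (hab : a ≠ b) (hbc : b ≠ c) (hac : a ≠ c) {M : Type*} [AddCommMonoid M] (f : Fin 3 → M) :
    ∑ k, f k = f a + f b + f c := by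
  have hu : (Finset.univ : Finset (Fin 3)) = {a, b, c} := by
    revert a b c; decide
  rw [hu, Finset.sum_insert, Finset.sum_insert, Finset.sum_singleton, add_assoc]
  · simpa using hbc
  · simp [hab, hac]

theorem cases3 (hab : a ≠ b) (hbc : b ≠ c) (hac : a ≠ c) (k : Fin 3) : k = a ∨ k = b ∨ k = c := by
  revert a b c k; decide

theorem det3 (hab : a ≠ b) (hbc : b ≠ c) (hac : a ≠ c) (M : Matrix (Fin 3) (Fin 3) F) :
    M.det = M a a * (M b b * M c c - M b c * M c b) - M a b * (M b a * M c c - M b c * M c a)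
      + M a c * (M b a * M c b - M b b * M c a) := by
  rw [Matrix.det_fin_three]
  have key : ∀ a b c : Fin 3, a ≠ b → b ≠ c → a ≠ c →
      (M 0 0 * M 1 1 * M 2 2 - M 0 0 * M 1 2 * M 2 1 - M 0 1 * M 1 0 * M 2 2 + M 0 1 * M 1 2 * M 2 0 +
        M 0 2 * M 1 0 * M 2 1 - M 0 2 * M 1 1 * M 2 0) =
      M a a * (M b b * M c c - M b c * M c b) - M a b * (M b a * M c c - M b c * M c a)
      + M a c * (M b a * M c b - M b b * M c a) := by
    intro a b c h1 h2 h3
    fin_cases a <;> fin_cases b <;> first | exact absurd rfl h1 | skip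
    all_goals
      fin_cases c <;> first | exact absurd rfl h2 | exact absurd rfl h3 | skip
    all_goals simp only [Fin.zero_eta, Fin.mk_one, Fin.reduceFinMk]; ring
  exact key a b c hab hbc hac

theorem trace3 (hab : a ≠ b) (hbc : b ≠ c) (hac : a ≠ c) (M : Matrix (Fin 3) (Fin 3) F) :
    M.trace = M a a + M b b + M c c := by
  rw [Matrix.trace, sum3 hab hbc hac]
  rfl

theorem ext3 (hab : a ≠ b) (hbc : b ≠ c) (hac : a ≠ c) {M N : Matrix (Fin 3) (Fin 3) F}
    (h : ∀ k, M a k = N a k ∧ M b k = N b k ∧ M c k = N c k) : M = N := by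
  ext i k
  rcases cases3 hab hbc hac i with rfl | rfl | rfl
  · exact (h k).1
  · exact (h k).2.1
  · exact (h k).2.2

end Cases

/-- matrix entries -/
def en (g : S3 F) (i k : Fin 3) : F := (g.1 : Matrix (Fin 3) (Fin 3) F) i k

theorem en_mul (g h : S3 F) (i k : Fin 3) : en (g * h) i k = ∑ j, en g i j * en h j k := rfl

theorem en_one (i k : Fin 3) : en (1 : S3 F) i k = if i = k then 1 else 0 := Matrix.one_apply

theorem en_ext {g h : S3 F} (hgh : ∀ i k, en g i k = en h i k) : g = h :=
  Subtype.ext (Matrix.ext hgh)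

/-- the transvection group -/
def X (a b : Fin 3) : Subgroup (S3 F) :=
  Subgroup.closure {g | ∃ h : a ≠ b, ∃ t : F, g = SpecialLinearGroup.transvection h t}

theorem tr_add {a b : Fin 3} (h : a ≠ b) (s t : F) :
    (SpecialLinearGroup.transvection h (s + t) : S3 F) =
      SpecialLinearGroup.transvection h s * SpecialLinearGroup.transvection h t :=
  Subtype.ext (Matrix.transvection_mul_transvection_same a b h s t).symm

theorem tr_zero {a b : Fin 3} (h : a ≠ b) : (SpecialLinearGroup.transvection h 0 : S3 F) = 1 :=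
  SpecialLinearGroup.transvection_coeff_zero h

theorem tr_neg {a b : Fin 3} (h : a ≠ b) (t : F) :
    (SpecialLinearGroup.transvection h (-t) : S3 F) = (SpecialLinearGroup.transvection h t)⁻¹ := by
  rw [eq_inv_iff_mul_eq_one, ← tr_add, neg_add_cancel, tr_zero]

theorem mem_X {a b : Fin 3} (h : a ≠ b) {g : S3 F} : g ∈ (X a b : Subgroup (S3 F)) ↔
    ∃ t : F, g = SpecialLinearGroup.transvection h t := by
  constructor
  · intro hg
    refine Subgroup.closure_induction (p := fun g _ => ∃ t : F, g = SpecialLinearGroup.transvection h t)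
      ?_ ?_ ?_ ?_ hg
    · rintro x ⟨_, t, rfl⟩
      exact ⟨t, rfl⟩
    · exact ⟨0, (tr_zero h).symm⟩
    · rintro x y _ _ ⟨s, rfl⟩ ⟨t, rfl⟩
      exact ⟨s + t, (tr_add h s t).symm⟩
    · rintro x _ ⟨s, rfl⟩
      exact ⟨-s, (tr_neg h s).symm⟩
  · rintro ⟨t, rfl⟩
    exact Subgroup.subset_closure ⟨h, t, rfl⟩

theorem tr_mem {a b : Fin 3} (h : a ≠ b) (t : F) :
    (SpecialLinearGroup.transvection h t : S3 F) ∈ (X a b : Subgroup (S3 F)) :=
  Subgroup.subset_closure ⟨h, t, rfl⟩

theorem tr_coe {a b : Fin 3} (h : a ≠ b) (t : F) (i k : Fin 3) :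
    en (SpecialLinearGroup.transvection h t : S3 F) i k =
      (if i = k then 1 else 0) + (if a = i ∧ b = k then t else 0) := by
  show ((1 : Matrix (Fin 3) (Fin 3) F) + Matrix.single a b t) i k = _
  rw [Matrix.add_apply, Matrix.one_apply, Matrix.single_apply]

theorem tr_inj {a b : Fin 3} (h : a ≠ b) {s t : F}
    (hst : (SpecialLinearGroup.transvection h s : S3 F) = SpecialLinearGroup.transvection h t) : s = t := by
  have := congrArg (fun g : S3 F => en g a b) hst
  simpa [tr_coe, h] using this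

/-- the standard `SL₂` -/
def std (a b : Fin 3) : Subgroup (S3 F) := X a b ⊔ X b a

theorem std_symm (a b : Fin 3) : (std a b : Subgroup (S3 F)) = std b a := sup_comm _ _

theorem X_le_std (a b : Fin 3) : (X a b : Subgroup (S3 F)) ≤ std a b := le_sup_left
theorem X_le_std' (a b : Fin 3) : (X b a : Subgroup (S3 F)) ≤ std a b := le_sup_right

/-- the stabiliser of the vector `e_c` and of the dual vector `e_c` -/
def Blk (c : Fin 3) : Subgroup (S3 F) where
  carrier := {g | ∀ i, en g i c = (if i = c then 1 else 0) ∧ en g c i = (if i = c then 1 else 0)}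
  one_mem' := by
    intro i
    rw [en_one, en_one]
    simp only [eq_comm, and_self]
  mul_mem' := by
    intro g h hg hh i
    rw [en_mul, en_mul]
    constructor
    · rw [Finset.sum_eq_single c]
      · rw [(hh c).1, if_pos rfl, mul_one, (hg i).1]
      · intro k _ hk
        rw [(hh k).1, if_neg hk, mul_zero]
      · intro h; exact absurd (Finset.mem_univ _) h
    · rw [Finset.sum_eq_single c]
      · rw [(hg c).1, if_pos rfl, one_mul, (hh i).2]
      · intro k _ hk
        rw [(hg k).2, if_neg hk, zero_mul]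
      · intro h; exact absurd (Finset.mem_univ _) h
  inv_mem' := by
    intro g hg i
    have e1 : (g * g⁻¹ : S3 F) = 1 := mul_inv_cancel g
    have e2 : (g⁻¹ * g : S3 F) = 1 := inv_mul_cancel g
    constructor
    · have := congrArg (fun m : S3 F => en m i c) e2
      simp only [en_mul, en_one] at this
      rw [Finset.sum_eq_single c] at this
      · rw [(hg c).1, if_pos rfl, mul_one] at this
        exact this
      · intro k _ hk
        rw [(hg k).1, if_neg hk, mul_zero]
      · intro h; exact absurd (Finset.mem_univ _) h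
    · have := congrArg (fun m : S3 F => en m c i) e1
      simp only [en_mul, en_one] at this
      rw [Finset.sum_eq_single c] at this
      · rw [(hg c).1, if_pos rfl, one_mul] at this
        rw [this]
        simp only [eq_comm]
      · intro k _ hk
        rw [(hg k).2, if_neg hk, zero_mul]
      · intro h; exact absurd (Finset.mem_univ _) h

section Triple

variable {a b c : Fin 3} (hab : a ≠ b) (hbc : b ≠ c) (hac : a ≠ c)

include hab hbc hac

theorem X_le_Blk : (X a b : Subgroup (S3 F)) ≤ Blk c := by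
  intro g hg
  obtain ⟨t, rfl⟩ := (mem_X hab).1 hg
  intro i
  rw [tr_coe, tr_coe]
  simp [hab, hbc, hac, Ne.symm hbc, Ne.symm hac, eq_comm]

theorem std_le_Blk : (std a b : Subgroup (S3 F)) ≤ Blk c :=
  sup_le (X_le_Blk hab hbc hac) (X_le_Blk hab.symm hac hbc)

/-- the entries of a block matrix -/
theorem blk_entries {g : S3 F} (hg : g ∈ (Blk c : Subgroup (S3 F))) :
    en g c c = 1 ∧ en g c a = 0 ∧ en g c b = 0 ∧ en g a c = 0 ∧ en g b c = 0 ∧
      en g a a * en g b b - en g a b * en g b a = 1 := by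
  have h1 := (hg c).1
  have h2 := (hg a).2
  have h3 := (hg b).2
  have h4 := (hg a).1
  have h5 := (hg b).1
  rw [if_pos rfl] at h1
  rw [if_neg hac] at h2 h4
  rw [if_neg hbc] at h3 h5
  refine ⟨h1, h2, h3, h4, h5, ?_⟩
  have hd := g.2
  rw [det3 hab hbc hac] at hd
  change en g a a * (en g b b * en g c c - en g b c * en g c b) -
      en g a b * (en g b a * en g c c - en g b c * en g c a)
      + en g a c * (en g b a * en g c b - en g b b * en g c a) = 1 at hd
  rw [h1, h2, h3, h4, h5] at hd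
  linear_combination hd

theorem blk_ext {g h : S3 F} (hg : g ∈ (Blk c : Subgroup (S3 F))) (hh : h ∈ (Blk c : Subgroup (S3 F)))
    (h1 : en g a a = en h a a) (h2 : en g a b = en h a b) (h3 : en g b a = en h b a) (h4 : en g b b = en h b b) :
    g = h := by
  apply Subtype.ext
  obtain ⟨p1, p2, p3, p4, p5, -⟩ := blk_entries hab hbc hac hg
  obtain ⟨q1, q2, q3, q4, q5, -⟩ := blk_entries hab hbc hac hh
  refine ext3 hab hbc hac fun k => ?_
  rcases cases3 hab hbc hac k with rfl | rfl | rfl
  · exact ⟨h1, h3, p2.trans q2.symm⟩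
  · exact ⟨h2, h4, p3.trans q3.symm⟩
  · exact ⟨p4.trans q4.symm, p5.trans q5.symm, p1.trans q1.symm⟩

/-- an upper triangular unipotent block matrix is a transvection -/
theorem mem_X_of_entries {g : S3 F} (hg : g ∈ (Blk c : Subgroup (S3 F))) (h1 : en g a a = 1) (h2 : en g b a = 0)
    (h3 : en g b b = 1) : g ∈ (X a b : Subgroup (S3 F)) := by
  have : g = SpecialLinearGroup.transvection hab (en g a b) := by
    refine blk_ext hab hbc hac hg (X_le_Blk hab hbc hac (tr_mem hab _)) ?_ ?_ ?_ ?_
    · rw [tr_coe, h1]; simp [Ne.symm hab]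
    · rw [tr_coe]; simp [hab]
    · rw [tr_coe, h2]; simp [hab, Ne.symm hab]
    · rw [tr_coe, h3]; simp [hab, Ne.symm hab]
  rw [this]
  exact tr_mem hab _

omit hab hbc hac in
/-- the diagonal involution with `1` at `c` -/
def dg (c : Fin 3) : S3 F :=
  ⟨Matrix.diagonal fun i => if i = c then 1 else -1, by
    rw [Matrix.det_diagonal, Fin.prod_univ_three]
    fin_cases c <;> simp⟩

omit hab hbc hac in
theorem dg_coe (c i k : Fin 3) : en (dg c : S3 F) i k = if i = k then (if i = c then 1 else -1) else 0 := by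
  show Matrix.diagonal (fun i => if i = c then (1 : F) else -1) i k = _
  rw [Matrix.diagonal_apply]

omit hab hbc hac in
theorem dg_sq (c : Fin 3) : (dg c : S3 F) * dg c = 1 := by
  apply Subtype.ext
  show Matrix.diagonal _ * Matrix.diagonal _ = (1 : Matrix (Fin 3) (Fin 3) F)
  rw [Matrix.diagonal_mul_diagonal, ← Matrix.diagonal_one]
  congr 1
  funext i
  split_ifs <;> simp

omit hab hbc hac in
theorem dg_ne (h2 : (2 : F) ≠ 0) (c : Fin 3) : (dg c : S3 F) ≠ 1 := by
  intro h
  obtain ⟨i, hi⟩ : ∃ i : Fin 3, i ≠ c := exists_ne c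
  have := congrArg (fun m : S3 F => en m i i) h
  simp only [dg_coe, en_one, if_true, if_neg hi] at this
  apply h2
  linear_combination -this

theorem dg_mul : (dg a : S3 F) * dg b = dg c := by
  apply Subtype.ext
  show Matrix.diagonal _ * Matrix.diagonal _ = Matrix.diagonal _
  rw [Matrix.diagonal_mul_diagonal]
  congr 1
  funext i
  rcases cases3 hab hbc hac i with rfl | rfl | rfl
  · simp [hab, hac]
  · simp [Ne.symm hab, hbc]
  · simp [Ne.symm hbc, Ne.symm hac]

omit hab hbc hac in
theorem dg_inv (c : Fin 3) : (dg c : S3 F)⁻¹ = dg c := by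
  rw [inv_eq_iff_mul_eq_one, dg_sq]

omit hab hbc hac in
theorem dg_conj (c : Fin 3) (g : S3 F) (i k : Fin 3) : en (dg c * g * (dg c)⁻¹ : S3 F) i k =
    (if i = c then 1 else -1) * en g i k * (if k = c then 1 else -1) := by
  rw [dg_inv]
  show ((Matrix.diagonal _ * g.1 * Matrix.diagonal _ : Matrix (Fin 3) (Fin 3) F)) i k = _
  rw [Matrix.mul_diagonal, Matrix.diagonal_mul]
  rfl

omit hab hbc hac in
/-- conjugation of root subgroups by diagonal involutions -/
theorem dg_conj_X (c : Fin 3) {i k : Fin 3} (hik : i ≠ k) {g : S3 F} (hg : g ∈ (X i k : Subgroup (S3 F))) :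
    dg c * g * (dg c)⁻¹ ∈ (X i k : Subgroup (S3 F)) := by
  obtain ⟨t, rfl⟩ := (mem_X hik).1 hg
  rw [mem_X hik]
  refine ⟨(if i = c then 1 else -1) * t * (if k = c then 1 else -1), ?_⟩
  refine en_ext fun m n => ?_
  rw [dg_conj, tr_coe, tr_coe]
  by_cases h1 : m = n
  · subst h1
    have h3 : ¬ (i = m ∧ k = m) := fun h => hik (h.1.trans h.2.symm)
    rw [if_pos rfl, if_neg h3, if_neg h3]
    split_ifs <;> ring
  · rw [if_neg h1]
    by_cases h2 : i = m ∧ k = n
    · obtain ⟨rfl, rfl⟩ := h2
      simp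
    · rw [if_neg h2, if_neg h2]
      ring

omit hab hbc hac in
theorem dg_conj_std (c : Fin 3) {i k : Fin 3} (hik : i ≠ k) {g : S3 F} (hg : g ∈ (std i k : Subgroup (S3 F))) :
    dg c * g * (dg c)⁻¹ ∈ (std i k : Subgroup (S3 F)) := by
  have h : (std i k : Subgroup (S3 F)) ≤ (std i k : Subgroup (S3 F)).comap (MulAut.conj (dg c)).toMonoidHom := by
    refine sup_le ?_ ?_
    · intro x hx
      exact X_le_std i k (dg_conj_X c hik hx)
    · intro x hx
      exact X_le_std' i k (dg_conj_X c hik.symm hx)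
  exact h hg

omit hab hbc hac in
/-- Weyl element -/
def wl {a b : Fin 3} (hab : a ≠ b) : S3 F :=
  SpecialLinearGroup.transvection hab 1 * SpecialLinearGroup.transvection hab.symm (-1) *
    SpecialLinearGroup.transvection hab 1

omit hbc hac in
theorem wl_mem : (wl hab : S3 F) ∈ (std a b : Subgroup (S3 F)) :=
  mul_mem (mul_mem (X_le_std a b (tr_mem hab _)) (X_le_std' a b (tr_mem hab.symm _))) (X_le_std a b (tr_mem hab _))

theorem wl_entries : en (wl hab : S3 F) a a = 0 ∧ en (wl hab : S3 F) a b = 1 ∧ en (wl hab : S3 F) b a = -1 ∧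
    en (wl hab : S3 F) b b = 0 := by
  unfold wl
  simp only [en_mul, sum3 hab hbc hac]
  have t := fun (s : F) i k => tr_coe hab s i k
  have t' := fun (s : F) i k => tr_coe hab.symm s i k
  simp only [t, t']
  simp [hab, hbc, hac, Ne.symm hab, Ne.symm hbc, Ne.symm hac]

theorem wl_sq : (wl hab : S3 F) * wl hab = dg c := by
  have hw := std_le_Blk hab hbc hac (wl_mem (F := F) hab)
  have hd : (dg c : S3 F) ∈ (Blk c : Subgroup (S3 F)) := by
    intro i
    rw [dg_coe, dg_coe]
    by_cases h : i = c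
    · subst h; simp
    · simp [h, Ne.symm h]
  obtain ⟨p1, p2, p3, p4⟩ := wl_entries (F := F) hab hbc hac
  obtain ⟨q1, q2, q3, q4, q5, -⟩ := blk_entries hab hbc hac hw
  refine blk_ext hab hbc hac (mul_mem hw hw) hd ?_ ?_ ?_ ?_
  all_goals
    rw [en_mul, sum3 hab hbc hac, dg_coe]
    simp only [p1, p2, p3, p4, q1, q2, q3, q4, q5]
    simp [hab, Ne.symm hab, hac, hbc]

theorem dg_mem_std : (dg c : S3 F) ∈ (std a b : Subgroup (S3 F)) := by
  rw [← wl_sq hab hbc hac]
  exact mul_mem (wl_mem hab) (wl_mem hab)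

theorem dg_mem_Blk : (dg c : S3 F) ∈ (Blk c : Subgroup (S3 F)) := std_le_Blk hab hbc hac (dg_mem_std hab hbc hac)

/-- the only involution of a block -/
theorem eq_dg (h2 : (2 : F) ≠ 0) {s : S3 F} (hs : s ∈ (Blk c : Subgroup (S3 F))) (hs2 : s * s = 1) (hs1 : s ≠ 1) :
    s = dg c := by
  obtain ⟨q1, q2, q3, q4, q5, hd⟩ := blk_entries hab hbc hac hs
  have haa := congrArg (fun m : S3 F => en m a a) hs2
  have hab' := congrArg (fun m : S3 F => en m a b) hs2
  have hba := congrArg (fun m : S3 F => en m b a) hs2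
  have hbb := congrArg (fun m : S3 F => en m b b) hs2
  simp only [en_mul, en_one, sum3 hab hbc hac, if_neg hab, if_neg (Ne.symm hab), if_true, q2, q3, q4, q5, mul_zero, add_zero] at haa hab' hba hbb
  have e1 : en s a a * (en s a a + en s b b) = 2 := by linear_combination haa + hd
  have e0 : en s a a + en s b b ≠ 0 := by
    intro h
    rw [h, mul_zero] at e1
    exact h2 e1.symm
  have e2 : en s a b = 0 := by
    have : en s a b * (en s a a + en s b b) = 0 := by linear_combination hab'
    exact (mul_eq_zero.1 this).resolve_right e0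
  have e3 : en s b a = 0 := by
    have : en s b a * (en s a a + en s b b) = 0 := by linear_combination hba
    exact (mul_eq_zero.1 this).resolve_right e0
  rw [e2, e3, mul_zero, sub_zero] at hd
  rw [e2, zero_mul, add_zero] at haa
  have e4 : en s a a = en s b b := by
    have h0 : en s a a ≠ 0 := by
      intro h; rw [h, zero_mul] at haa; exact zero_ne_one haa
    exact mul_left_cancel₀ h0 (haa.trans hd.symm)
  have e5 : (en s a a - 1) * (en s a a + 1) = 0 := by linear_combination haa
  rcases mul_eq_zero.1 e5 with h | h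
  · exfalso
    apply hs1
    refine blk_ext hab hbc hac hs (one_mem _) ?_ ?_ ?_ ?_
    · rw [en_one, if_pos rfl]; linear_combination h
    · rw [en_one, if_neg hab, e2]
    · rw [en_one, if_neg hab.symm, e3]
    · rw [en_one, if_pos rfl]; linear_combination h - e4
  · refine blk_ext hab hbc hac hs (dg_mem_Blk hab hbc hac) ?_ ?_ ?_ ?_
    · rw [dg_coe, if_pos rfl, if_neg hac]; linear_combination h
    · rw [dg_coe, if_neg hab, e2]
    · rw [dg_coe, if_neg hab.symm, e3]
    · rw [dg_coe, if_pos rfl, if_neg hbc]; linear_combination h - e4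

end Triple

end Cfsg.Agent.CTFrame.SL3
end

-- part: CTFrame/Root
section
/-!
# Roots in images of `SL (Fin 3) F`
-/

set_option autoImplicit false
set_option linter.unusedSectionVars false
set_option linter.unusedVariables false
set_option linter.unusedSimpArgs false

namespace Cfsg.Agent.CTFrame.Root

open Matrix Cfsg.Agent.CTFrame.SL3

universe u v

variable {F : Type u} [Field F] {G : Type v} [Group G]

/-- a group is not the union of two proper subgroups -/
theorem le_or_le {Γ : Type*} [Group Γ] {Y A B : Subgroup Γ} (h : ∀ y ∈ Y, y ∈ A ∨ y ∈ B) : Y ≤ A ∨ Y ≤ B := by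
  rw [← SubgroupClass.subset_union]
  exact h

section Triple

variable {a b c : Fin 3} (hab : a ≠ b) (hbc : b ≠ c) (hac : a ≠ c)

include hab hbc hac

omit hab hbc hac in
theorem trace_of_pow {p : ℕ} [Fact p.Prime] [CharP F p] {y : S3 F} {n : ℕ} (hy : y ^ p ^ n = 1) :
    Matrix.trace (y.1 : Matrix (Fin 3) (Fin 3) F) = 3 := by
  have h1 : ((y.1 : Matrix (Fin 3) (Fin 3) F)) ^ p ^ n = 1 := congrArg Subtype.val hy
  have h2 : IsNilpotent ((y.1 : Matrix (Fin 3) (Fin 3) F) - 1) := by
    refine ⟨p ^ n, ?_⟩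
    rw [sub_pow_char_pow_of_commute _ _ (Commute.one_right _), h1, one_pow, sub_self]
  have h3 := (Matrix.isNilpotent_trace_of_isNilpotent h2).eq_zero
  rw [Matrix.trace_sub, Matrix.trace_one, Fintype.card_fin, sub_eq_zero] at h3
  rw [h3]
  norm_num

theorem unip_or (h2 : (2 : F) ≠ 0) {y : S3 F} (hy : y ∈ (Blk c : Subgroup (S3 F)))
    (h3 : Matrix.trace (y.1 : Matrix (Fin 3) (Fin 3) F) = 3)
    (h4 : Matrix.trace ((y * (dg a * y * (dg a)⁻¹) : S3 F).1 : Matrix (Fin 3) (Fin 3) F) = 3) :
    y ∈ (X a b : Subgroup (S3 F)) ∨ y ∈ (X b a : Subgroup (S3 F)) := by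
  obtain ⟨q1, q2, q3, q4, q5, hd⟩ := blk_entries hab hbc hac hy
  rw [trace3 hab hbc hac] at h3 h4
  change en y a a + en y b b + en y c c = 3 at h3
  change en (y * (dg a * y * (dg a)⁻¹)) a a + en (y * (dg a * y * (dg a)⁻¹)) b b +
    en (y * (dg a * y * (dg a)⁻¹)) c c = 3 at h4
  simp only [en_mul y, sum3 hab hbc hac, dg_conj, if_true, if_neg hab.symm, if_neg hac.symm, q1, q2, q3, q4, q5]
    at h4
  rw [q1] at h3
  have e1 : en y a a + en y b b = 2 := by linear_combination h3
  have e2 : en y a b * en y b a = 0 := by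
    have : (2 * 2) * (en y a b * en y b a) = 0 := by
      linear_combination -h4 + (en y a a + en y b b + 2) * e1 - 2 * hd
    exact (mul_eq_zero.1 this).resolve_left (mul_ne_zero h2 h2)
  have e3 : (en y a a - 1) * (en y a a - 1) = 0 := by
    linear_combination en y a a * e1 - hd - e2
  have e4 : en y a a = 1 := by
    have := mul_self_eq_zero.1 e3
    linear_combination this
  have e5 : en y b b = 1 := by linear_combination e1 - e4
  rcases mul_eq_zero.1 e2 with h | h
  · right
    exact mem_X_of_entries hab.symm hac hbc hy e5 h e4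
  · left
    exact mem_X_of_entries hab hbc hac hy e4 h e5

/-- centre meets the block trivially -/
theorem eq_one_of_center {x : S3 F} (hx : x ∈ (Blk c : Subgroup (S3 F))) (hz : x ∈ Subgroup.center (S3 F)) :
    x = 1 := by
  obtain ⟨q1, q2, q3, q4, q5, hd⟩ := blk_entries hab hbc hac hx
  have h1 := Subgroup.mem_center_iff.1 hz (SpecialLinearGroup.transvection hac 1)
  have h2 := Subgroup.mem_center_iff.1 hz (SpecialLinearGroup.transvection hbc 1)
  have t1 := fun i k => tr_coe (F := F) hac 1 i k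
  have t2 := fun i k => tr_coe (F := F) hbc 1 i k
  have a1 := congrArg (fun m : S3 F => en m a c) h1
  have a2 := congrArg (fun m : S3 F => en m b c) h1
  have a3 := congrArg (fun m : S3 F => en m a c) h2
  have a4 := congrArg (fun m : S3 F => en m b c) h2
  simp only [en_mul, sum3 hab hbc hac, t1, t2, q1, q2, q3, q4, q5] at a1 a2 a3 a4
  simp [hab, hbc, hac, Ne.symm hab, Ne.symm hbc, Ne.symm hac] at a1 a2 a3 a4
  refine blk_ext hab hbc hac hx (one_mem _) ?_ ?_ ?_ ?_
  · rw [en_one, if_pos rfl]; exact a1.symm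
  · rw [en_one, if_neg hab]; exact a3.symm
  · rw [en_one, if_neg hab.symm]; exact a2.symm
  · rw [en_one, if_pos rfl]; exact a4.symm

/-! ### homomorphisms with central kernel -/

variable (φ : S3 F →* G)

theorem eq_one_of_map (hφ : φ.ker ≤ Subgroup.center (S3 F)) {x : S3 F} (hx : x ∈ (Blk c : Subgroup (S3 F)))
    (h1 : φ x = 1) : x = 1 :=
  eq_one_of_center hab hbc hac hx (hφ h1)

theorem inj_on (hφ : φ.ker ≤ Subgroup.center (S3 F)) {x y : S3 F} (hx : x ∈ (Blk c : Subgroup (S3 F)))
    (hy : y ∈ (Blk c : Subgroup (S3 F))) (h1 : φ x = φ y) : x = y := by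
  have := eq_one_of_map hab hbc hac φ hφ (mul_mem hx (inv_mem hy)) (by rw [map_mul, map_inv, h1, mul_inv_cancel])
  exact mul_inv_eq_one.1 this

/-- the two roots -/
theorem root_le {p : ℕ} [Fact p.Prime] [CharP F p] (h2 : (2 : F) ≠ 0) (hφ : φ.ker ≤ Subgroup.center (S3 F))
    {P : Subgroup G} (hP : IsPGroup p P) (hle : P ≤ (std a b).map φ) (hn : ∀ x ∈ P, φ (dg a) * x * (φ (dg a))⁻¹ ∈ P) :
    P ≤ (X a b).map φ ∨ P ≤ (X b a).map φ := by
  have key : ∀ y ∈ (std a b : Subgroup (S3 F)), φ y ∈ P → Matrix.trace (y.1 : Matrix (Fin 3) (Fin 3) F) = 3 := by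
    intro y hy hyP
    obtain ⟨n, hn⟩ := hP ⟨φ y, hyP⟩
    have h1 : φ y ^ p ^ n = 1 := congrArg Subtype.val hn
    rw [← map_pow] at h1
    exact trace_of_pow (eq_one_of_map hab hbc hac φ hφ (pow_mem (std_le_Blk hab hbc hac hy) _) h1)
  refine le_or_le fun z hz => ?_
  obtain ⟨y, hy, rfl⟩ := hle hz
  have hy' : y ∈ (std a b : Subgroup (S3 F)) := hy
  have h5 : dg a * y * (dg a)⁻¹ ∈ (std a b : Subgroup (S3 F)) := dg_conj_std a hab hy'
  have h6 : φ (y * (dg a * y * (dg a)⁻¹)) ∈ P := by
    rw [map_mul, map_mul, map_mul, map_inv]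
    exact mul_mem hz (hn _ hz)
  rcases unip_or hab hbc hac h2 (std_le_Blk hab hbc hac hy') (key y hy' hz) (key _ (mul_mem hy' h5) h6) with h | h
  · exact Or.inl ⟨y, h, rfl⟩
  · exact Or.inr ⟨y, h, rfl⟩

theorem card_map_X (hφ : φ.ker ≤ Subgroup.center (S3 F)) : Nat.card ((X a b).map φ : Subgroup G) = Nat.card F := by
  symm
  refine Nat.card_congr (Equiv.ofBijective
    (fun t => ⟨φ (SpecialLinearGroup.transvection hab t), ⟨_, tr_mem hab t, rfl⟩⟩) ⟨fun s t hst => ?_, ?_⟩)
  · have h1 := congrArg Subtype.val hst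
    simp only at h1
    exact tr_inj hab (inj_on hab hbc hac φ hφ (X_le_Blk hab hbc hac (tr_mem hab s))
      (X_le_Blk hab hbc hac (tr_mem hab t)) h1)
  · rintro ⟨_, x, hx, rfl⟩
    obtain ⟨t, rfl⟩ := (mem_X hab).1 hx
    exact ⟨t, rfl⟩

theorem root_eq [Finite F] {p : ℕ} [Fact p.Prime] [CharP F p] (h2 : (2 : F) ≠ 0)
    (hφ : φ.ker ≤ Subgroup.center (S3 F))
    {P : Subgroup G} (hP : IsPGroup p P) (hle : P ≤ (std a b).map φ) (hn : ∀ x ∈ P, φ (dg a) * x * (φ (dg a))⁻¹ ∈ P)
    (hc : Nat.card P = Nat.card F) : P = (X a b).map φ ∨ P = (X b a).map φ := by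
  have hfin : ∀ {a b : Fin 3}, Finite ((X a b : Subgroup (S3 F)).map φ : Subgroup G) := by
    intro a b
    have : Finite (S3 F) := inferInstance
    have : Finite ((X a b : Subgroup (S3 F)) : Set (S3 F)) := inferInstance
    exact Set.Finite.to_subtype (Set.toFinite ((φ : S3 F → G) '' (X a b : Subgroup (S3 F))))
  rcases root_le hab hbc hac φ h2 hφ hP hle hn with h | h
  · left
    have := hfin (a := a) (b := b)
    exact Subgroup.eq_of_le_of_card_ge h (by rw [card_map_X hab hbc hac φ hφ, hc])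
  · right
    have := hfin (a := b) (b := a)
    exact Subgroup.eq_of_le_of_card_ge h (by rw [card_map_X hab.symm hac hbc φ hφ, hc])

omit hbc hac in
theorem pgroup_X {p : ℕ} [Fact p.Prime] [CharP F p] : IsPGroup p ((X a b).map φ : Subgroup G) := by
  rintro ⟨_, x, hx, rfl⟩
  obtain ⟨t, rfl⟩ := (mem_X hab).1 hx
  refine ⟨1, ?_⟩
  apply Subtype.ext
  show φ (SpecialLinearGroup.transvection hab t) ^ p ^ 1 = 1
  rw [pow_one, ← map_pow]
  have h1 : ∀ n : ℕ, (SpecialLinearGroup.transvection hab t : S3 F) ^ n =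
      SpecialLinearGroup.transvection hab ((n : F) * t) := by
    intro n
    induction n with
    | zero => rw [pow_zero, Nat.cast_zero, zero_mul, tr_zero]
    | succ n ih => rw [pow_succ, ih, ← tr_add, Nat.cast_succ, add_mul, one_mul]
  rw [h1, CharP.cast_eq_zero, zero_mul, tr_zero, map_one]

/-! ### commuting relations -/

omit hab hbc hac in
/-- two subgroups commute elementwise -/
def Par (P Q : Subgroup G) : Prop := ∀ x ∈ P, ∀ y ∈ Q, x * y = y * x

omit hab hbc hac in
theorem Par.symm {P Q : Subgroup G} (h : Par P Q) : Par Q P := fun x hx y hy => (h y hy x hx).symm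

omit hab hbc hac in
theorem tr_comm {i j k l : Fin 3} (hij : i ≠ j) (hkl : k ≠ l) (hjk : j ≠ k) (hil : i ≠ l) (s t : F) :
    (SpecialLinearGroup.transvection hij s : S3 F) * SpecialLinearGroup.transvection hkl t =
      SpecialLinearGroup.transvection hkl t * SpecialLinearGroup.transvection hij s := by
  apply Subtype.ext
  show ((1 : Matrix (Fin 3) (Fin 3) F) + Matrix.single i j s) * (1 + Matrix.single k l t) =
    (1 + Matrix.single k l t) * (1 + Matrix.single i j s)
  rw [mul_add, add_mul, add_mul, mul_add, add_mul, add_mul,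
    Matrix.single_mul_single_of_ne s i j k hjk t, Matrix.single_mul_single_of_ne t k l i hil.symm s]
  simp only [mul_one, one_mul, add_zero]
  abel

omit hab hbc hac in
theorem par_X {i j k l : Fin 3} (hij : i ≠ j) (hkl : k ≠ l) (hjk : j ≠ k) (hil : i ≠ l) :
    Par ((X i j).map φ) ((X k l).map φ) := by
  rintro _ ⟨x, hx, rfl⟩ _ ⟨y, hy, rfl⟩
  obtain ⟨s, rfl⟩ := (mem_X hij).1 hx
  obtain ⟨t, rfl⟩ := (mem_X hkl).1 hy
  rw [← map_mul, ← map_mul, tr_comm hij hkl hjk hil]

open scoped commutatorElement in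
theorem tr_br (s t : F) : ⁅(SpecialLinearGroup.transvection hab s : S3 F), SpecialLinearGroup.transvection hbc t⁆ =
    SpecialLinearGroup.transvection hac (s * t) := by
  have h1 : (SpecialLinearGroup.transvection hab s : S3 F) * SpecialLinearGroup.transvection hbc t =
      SpecialLinearGroup.transvection hac (s * t) * SpecialLinearGroup.transvection hbc t *
        SpecialLinearGroup.transvection hab s := by
    refine en_ext fun i k => ?_
    simp only [en_mul, sum3 hab hbc hac, tr_coe]
    rcases cases3 hab hbc hac i with rfl | rfl | rfl <;> rcases cases3 hab hbc hac k with rfl | rfl | rfl <;>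
      simp [hab, hbc, hac, Ne.symm hab, Ne.symm hbc, Ne.symm hac]
  rw [commutatorElement_def, h1]
  group

open scoped commutatorElement in
theorem not_par_X (hφ : φ.ker ≤ Subgroup.center (S3 F)) : ¬ Par ((X a b).map φ) ((X b c).map φ) := by
  intro h
  have h1 := h _ ⟨_, tr_mem hab 1, rfl⟩ _ ⟨_, tr_mem hbc 1, rfl⟩
  have h2 : φ ⁅(SpecialLinearGroup.transvection hab 1 : S3 F), SpecialLinearGroup.transvection hbc 1⁆ = 1 := by
    rw [map_commutatorElement, commutatorElement_eq_one_iff_mul_comm]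
    exact h1
  rw [tr_br hab hbc hac] at h2
  have h3 := eq_one_of_map hac hbc.symm hab φ hφ (X_le_Blk hac hbc.symm hab (tr_mem hac _)) h2
  rw [← tr_zero hac] at h3
  have := tr_inj hac h3
  simp at this

theorem not_par_X' (hφ : φ.ker ≤ Subgroup.center (S3 F)) : ¬ Par ((X a b).map φ) ((X b a).map φ) := by
  intro h
  have h1 := h _ ⟨_, tr_mem hab 1, rfl⟩ _ ⟨_, tr_mem hab.symm 1, rfl⟩
  rw [← map_mul, ← map_mul] at h1
  have m1 := X_le_Blk hab hbc hac (tr_mem (F := F) hab 1)
  have m2 := X_le_Blk hab.symm hac hbc (tr_mem (F := F) hab.symm 1)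
  have h2 := inj_on hab hbc hac φ hφ (mul_mem m1 m2) (mul_mem m2 m1) h1
  have h3 := congrArg (fun m : S3 F => en m a a) h2
  simp only [en_mul, sum3 hab hbc hac, tr_coe] at h3
  simp [hab, hbc, hac, Ne.symm hab, Ne.symm hbc, Ne.symm hac] at h3

/-- the Weyl element `wl bc` conjugates `X a b` into `X a c`. -/
theorem wl_conj (t : F) : (wl hbc : S3 F)⁻¹ * SpecialLinearGroup.transvection hab t * wl hbc =
    SpecialLinearGroup.transvection hac t := by
  rw [mul_assoc, inv_mul_eq_iff_eq_mul]
  obtain ⟨p1, p2, p3, p4⟩ := wl_entries (F := F) hbc hac.symm hab.symm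
  obtain ⟨q1, q2, q3, q4, q5, -⟩ := blk_entries hbc hac.symm hab.symm
    (std_le_Blk hbc hac.symm hab.symm (wl_mem (F := F) hbc))
  refine en_ext fun i k => ?_
  simp only [en_mul, sum3 hab hbc hac, tr_coe]
  rcases cases3 hab hbc hac i with rfl | rfl | rfl <;> rcases cases3 hab hbc hac k with rfl | rfl | rfl <;>
      simp [hab, hbc, hac, Ne.symm hab, Ne.symm hbc, Ne.symm hac, p1, p2, p3, p4, q1, q2, q3, q4, q5]

end Triple

/-! ### the graph automorphism -/

/-- inverse transpose -/
def gr : S3 F →* S3 F where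
  toFun g := ⟨(g⁻¹).1ᵀ, by rw [Matrix.det_transpose]; exact (g⁻¹).2⟩
  map_one' := by
    apply Subtype.ext
    show ((1 : S3 F)⁻¹).1ᵀ = (1 : Matrix (Fin 3) (Fin 3) F)
    rw [inv_one]
    exact Matrix.transpose_one
  map_mul' g h := by
    apply Subtype.ext
    show ((g * h)⁻¹ : S3 F).1ᵀ = (g⁻¹).1ᵀ * (h⁻¹).1ᵀ
    rw [_root_.mul_inv_rev, ← Matrix.transpose_mul]
    rfl

theorem gr_coe (g : S3 F) (i k : Fin 3) : en (gr g) i k = en g⁻¹ k i := rfl

theorem gr_injective : Function.Injective (gr : S3 F →* S3 F) := by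
  intro g h hgh
  apply inv_injective
  refine en_ext fun i k => ?_
  rw [← gr_coe, ← gr_coe, hgh]

theorem gr_tr {a b : Fin 3} (h : a ≠ b) (t : F) :
    gr (SpecialLinearGroup.transvection h t) = SpecialLinearGroup.transvection h.symm (-t) := by
  refine en_ext fun i k => ?_
  rw [gr_coe, ← tr_neg, tr_coe, tr_coe]
  simp only [eq_comm, and_comm]

theorem map_gr_X {a b : Fin 3} (h : a ≠ b) : (X a b : Subgroup (S3 F)).map gr = X b a := by
  ext x
  constructor
  · rintro ⟨y, hy, rfl⟩
    obtain ⟨t, rfl⟩ := (mem_X h).1 hy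
    rw [gr_tr]
    exact tr_mem _ _
  · intro hx
    obtain ⟨t, rfl⟩ := (mem_X h.symm).1 hx
    exact ⟨_, tr_mem h (-t), by rw [gr_tr, neg_neg]⟩

theorem ker_comp {φ : S3 F →* G} (hφ : φ.ker ≤ Subgroup.center (S3 F)) {f : S3 F →* S3 F}
    (hf : Function.Injective f) : (φ.comp f).ker ≤ Subgroup.center (S3 F) := by
  intro x hx
  have h1 : f x ∈ Subgroup.center (S3 F) := hφ hx
  rw [Subgroup.mem_center_iff] at h1 ⊢
  intro y
  apply hf
  rw [map_mul, map_mul, h1]

/-! ### permutations of the coordinates -/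

/-- simultaneous permutation of rows and columns -/
def pm (σ : Equiv.Perm (Fin 3)) : S3 F →* S3 F where
  toFun g := ⟨g.1.submatrix σ σ, by rw [Matrix.det_submatrix_equiv_self]; exact g.2⟩
  map_one' := Subtype.ext (Matrix.submatrix_one_equiv σ)
  map_mul' g h := Subtype.ext (Matrix.submatrix_mul_equiv g.1 h.1 σ σ σ).symm

theorem pm_coe (σ : Equiv.Perm (Fin 3)) (g : S3 F) (i k : Fin 3) : en (pm σ g) i k = en g (σ i) (σ k) := rfl

theorem pm_injective (σ : Equiv.Perm (Fin 3)) : Function.Injective (pm σ : S3 F →* S3 F) := by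
  intro g h hgh
  refine en_ext fun i k => ?_
  have := congrArg (fun m : S3 F => en m (σ.symm i) (σ.symm k)) hgh
  simpa [pm_coe] using this

theorem pm_tr (σ : Equiv.Perm (Fin 3)) {a b : Fin 3} (h : a ≠ b) (h' : σ a ≠ σ b) (t : F) :
    pm σ (SpecialLinearGroup.transvection h' t) = SpecialLinearGroup.transvection h t := by
  refine en_ext fun i k => ?_
  rw [pm_coe, tr_coe, tr_coe]
  simp only [EmbeddingLike.apply_eq_iff_eq]

theorem map_pm_X (σ : Equiv.Perm (Fin 3)) {a b : Fin 3} (h : a ≠ b) :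
    (X (σ a) (σ b) : Subgroup (S3 F)).map (pm σ) = X a b := by
  have h' : σ a ≠ σ b := fun e => h (σ.injective e)
  ext x
  constructor
  · rintro ⟨y, hy, rfl⟩
    obtain ⟨t, rfl⟩ := (mem_X h').1 hy
    rw [pm_tr σ h]
    exact tr_mem _ _
  · intro hx
    obtain ⟨t, rfl⟩ := (mem_X h).1 hx
    exact ⟨_, tr_mem h' t, by rw [pm_tr σ h]⟩

end Cfsg.Agent.CTFrame.Root
end
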